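import Groth.Agent.Lib.HensQF6.Basic
import Groth.Agent.Lib.DivDesc12.Sheaf
import Groth.Agent.Lib.EffCartier.Basic
import Mathlib.AlgebraicGeometry.ZariskisMainTheorem
import Mathlib

/-!
# Horizontal effective divisors through a closed point, over a henselian discrete valuation ring
-/

set_option autoImplicit false
set_option linter.style.haveILetI false
set_option linter.unusedSectionVars false
set_option backward.isDefEq.respectTransparency false
set_option maxHeartbeats 1000000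

universe u

open CategoryTheory CategoryTheory.Limits AlgebraicGeometry TopologicalSpace

namespace Groth.Agent.Curvette

variable {R : Type u} [CommRing R] [IsDomain R] [IsDiscreteValuationRing R] [HenselianLocalRing R]
  {X : Scheme.{u}} [IsIntegral X] (p : X ⟶ Spec (CommRingCat.of R)) [IsSeparated p] [LocallyOfFiniteType p]

/-- If `x` is isolated among the zeros of `τ` in the closed fibre, the finite part of `τ = 0` through `x` is an
effective divisor of `X` meeting the closed fibre only at `x`, with equation `τ` at each of its points. -/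
theorem exists_horizontal {U : X.Opens} (hU : IsAffineOpen U) (τ : Γ(X, U)) {x : X} (hxU : x ∈ U)
    (hxs : p x = IsLocalRing.closedPoint R) (hxτ : x ∉ X.basicOpen τ) (hτ : τ ≠ 0)
    (hiso : ∀ y ∈ U, p y = IsLocalRing.closedPoint R → y ∉ X.basicOpen τ → y = x) :
    ∃ (D : Scheme.{u}) (d : D ⟶ X), IsClosedImmersion d ∧ BlowUp.IsEffCartierIdeal d.ker ∧
      Set.range d ∩ p ⁻¹' {IsLocalRing.closedPoint R} = {x} ∧ Set.range d ⊆ U ∧
      ∀ (z : X) (hz : z ∈ U), z ∈ Set.range d →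
        DivDesc12.stI d.ker z = Ideal.span {X.presheaf.germ U z hz τ} := by
  haveI : IsAffine (U : Scheme.{u}) := hU
  haveI : Nonempty U := ⟨⟨x, hxU⟩⟩
  let τ' : Γ((U : Scheme.{u}), ⊤) := U.ι.appLE U ⊤ (fun w _ => w.2) τ
  let J : (U : Scheme.{u}).IdealSheafData := Scheme.IdealSheafData.ofIdealTop (Ideal.span {τ'})
  let Z := J.subscheme
  let ζ : Z ⟶ X := J.subschemeι ≫ U.ι
  have hJ : ∀ (V : X.affineOpens) (hV : (V : X.Opens) ≤ U),
      RingHom.ker (ζ.app V).hom = Ideal.span {(X.presheaf.map (homOfLE hV).op) τ} := fun V hV => by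
    let V' : (U : Scheme.{u}).affineOpens :=
      ⟨U.ι ⁻¹ᵁ V.1, V.2.preimage_of_isOpenImmersion U.ι (by rw [Scheme.Opens.opensRange_ι]; exact hV)⟩
    haveI : IsIso (U.ι.app V.1) := U.ι.isIso_app V.1 (by rw [Scheme.Opens.opensRange_ι]; exact hV)
    have hbij := ConcreteCategory.bijective_of_isIso (U.ι.app V.1)
    have h1 : RingHom.ker (J.subschemeι.app V'.1).hom = Ideal.span {((U : Scheme.{u}).presheaf.map
        (homOfLE (le_top : V'.1 ≤ ⊤)).op) τ'} := by
      rw [← Scheme.Hom.ker_apply J.subschemeι V', Scheme.IdealSheafData.ker_subschemeι,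
        Scheme.IdealSheafData.ofIdealTop_ideal, Ideal.map_span, Set.image_singleton]
    have h2 : (U.ι.app V.1) ((X.presheaf.map (homOfLE hV).op) τ) =
        ((U : Scheme.{u}).presheaf.map (homOfLE (le_top : V'.1 ≤ ⊤)).op) τ' := by
      show (X.presheaf.map (homOfLE hV).op ≫ U.ι.app V.1) τ =
        (U.ι.appLE U ⊤ (fun w _ => w.2) ≫ (U : Scheme.{u}).presheaf.map (homOfLE (le_top : V'.1 ≤ ⊤)).op) τ
      rw [Scheme.Hom.app_eq_appLE, Scheme.Hom.map_appLE, Scheme.Hom.appLE_map]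
    ext a
    show (J.subschemeι.app V'.1).hom ((U.ι.app V.1).hom a) = 0 ↔ _
    rw [← RingHom.mem_ker, h1, ← h2, Ideal.mem_span_singleton', Ideal.mem_span_singleton']
    constructor
    · rintro ⟨c, hc⟩
      obtain ⟨c', rfl⟩ := hbij.2 c
      exact ⟨c', hbij.1 ((map_mul (U.ι.app V.1).hom _ _).trans hc)⟩
    · rintro ⟨c, rfl⟩
      exact ⟨U.ι.app V.1 c, (map_mul (U.ι.app V.1).hom _ _).symm⟩
  have hrange : ∀ y, y ∈ Set.range ζ ↔ y ∈ U ∧ y ∉ X.basicOpen τ := fun y => by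
    have hsupp : ∀ w : (U : Scheme.{u}), w ∈ Set.range J.subschemeι ↔ U.ι w ∉ X.basicOpen τ := fun w => by
      rw [Scheme.IdealSheafData.range_subschemeι]
      show w ∈ J.support ↔ _
      rw [Scheme.IdealSheafData.mem_support_iff_of_mem (U := ⟨⊤, isAffineOpen_top _⟩) trivial,
        Scheme.IdealSheafData.ofIdealTop_ideal, Ideal.map_span, Set.image_singleton, Scheme.zeroLocus_span,
        Scheme.mem_zeroLocus_iff]
      simp only [Set.mem_singleton_iff, forall_eq]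
      rw [Scheme.basicOpen_res, show (U : Scheme.{u}).basicOpen τ' = ⊤ ⊓ U.ι ⁻¹ᵁ X.basicOpen τ from
        Scheme.basicOpen_appLE U.ι _ _ _ τ]
      exact ⟨fun h hw => h ⟨trivial, trivial, hw⟩, fun h hw => h hw.2.2⟩
    constructor
    · rintro ⟨q, rfl⟩
      exact ⟨(J.subschemeι q).2, (hsupp _).1 ⟨q, rfl⟩⟩
    · rintro ⟨hy, hy'⟩
      obtain ⟨q, hq⟩ := (hsupp ⟨y, hy⟩).2 hy'
      exact ⟨q, congrArg U.ι hq⟩
  -- the closed fibre of `Z` is the point over `x`
  let f : Z ⟶ Spec (CommRingCat.of R) := ζ ≫ p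
  haveI : IsAffine Z := isAffine_of_isAffineHom J.subschemeι
  haveI : IsLocallyNoetherian Z := LocallyOfFiniteType.isLocallyNoetherian f
  haveI : AlgebraicGeometry.IsNoetherian Z := {}
  haveI : IsSeparated f := inferInstance
  obtain ⟨z₀, hz₀⟩ := (hrange x).2 ⟨hxU, hxτ⟩
  have hζ : Function.Injective ζ := ζ.isEmbedding.injective
  have hqf : z₀ ∈ f.quasiFiniteLocus := by
    rw [Scheme.Hom.mem_quasiFiniteLocus, Scheme.Hom.quasiFiniteAt_iff_isOpen_singleton_asFiber]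
    haveI : Subsingleton (f.fiber (f z₀)) := ⟨fun a b => (f.fiberι (f z₀)).isEmbedding.injective (hζ (by
      have key : ∀ a, ζ (f.fiberι (f z₀) a) = x := fun a => by
        have h1 : f (f.fiberι (f z₀) a) = f z₀ := (f.range_fiberι (f z₀)).le ⟨a, rfl⟩
        have h2 := (hrange _).1 ⟨f.fiberι (f z₀) a, rfl⟩
        refine hiso _ h2.1 ?_ h2.2
        show f (f.fiberι (f z₀) a) = _
        rw [h1]
        show p (ζ z₀) = _
        rw [hz₀, hxs]
      rw [key a, key b]))⟩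
    exact isOpen_discrete _
  let Q := f.quasiFiniteLocus
  obtain ⟨W, hWcl, hWfin, hW⟩ := HensQF6.exists_finitePart (Q.ι ≫ f)
  haveI := hWfin
  let d : (W : Scheme.{u}) ⟶ X := W.ι ≫ Q.ι ≫ ζ
  have hdp : d ≫ p = W.ι ≫ Q.ι ≫ f := by simp only [d, f, Category.assoc]
  haveI : IsFinite (d ≫ p) := hdp ▸ hWfin
  haveI : IsFinite d := IsFinite.of_comp d p
  haveI : IsPreimmersion d := inferInstance
  haveI : IsClosedImmersion d := (IsClosedImmersion.iff_isFinite_and_mono _).2 ⟨inferInstance, inferInstance⟩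
  have hdU : Set.range d ⊆ U := by
    rintro _ ⟨w, rfl⟩
    exact ((hrange _).1 ⟨Q.ι (W.ι w), rfl⟩).1
  have hker : ∀ z (hz : z ∈ U), z ∈ Set.range d → ∃ V : X.affineOpens, ∃ hV : (V : X.Opens) ≤ U, z ∈ V.1 ∧
      d.ker.ideal V = Ideal.span {(X.presheaf.map (homOfLE hV).op) τ} := by
    intro z hz ⟨w, hw⟩
    let j : (W : Scheme.{u}) ⟶ Z := W.ι ≫ Q.ι
    obtain ⟨O, hO, hOj⟩ := ζ.isEmbedding.isInducing.isOpen_iff.1 j.opensRange.2
    have hzO : z ∈ O := by
      have h : j w ∈ ζ ⁻¹' O := (Set.ext_iff.1 hOj (j w)).2 ⟨w, rfl⟩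
      rw [← hw]; exact h
    obtain ⟨h, hle, hzh⟩ := hU.exists_basicOpen_le (V := ⟨O, hO⟩ ⊓ U) ⟨z, ⟨hzO, hz⟩⟩ hz
    let V : X.affineOpens := ⟨X.basicOpen h, hU.basicOpen h⟩
    refine ⟨V, X.basicOpen_le h, hzh, ?_⟩
    rw [Scheme.Hom.ker_apply, ← hJ V (X.basicOpen_le h)]
    haveI : IsIso (j.app (ζ ⁻¹ᵁ V.1)) := j.isIso_app _ fun t ht => by
      have h1 : t ∈ ζ ⁻¹' O := (hle ht).1
      exact (Set.ext_iff.1 hOj t).1 h1
    have hd : d.app V.1 = ζ.app V.1 ≫ j.app (ζ ⁻¹ᵁ V.1) := by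
      show ((W.ι ≫ Q.ι) ≫ ζ).app V.1 = _
      rw [Scheme.Hom.comp_app]
    rw [hd, CommRingCat.hom_comp]
    exact RingHom.ker_comp_of_injective _ (ConcreteCategory.bijective_of_isIso (j.app (ζ ⁻¹ᵁ V.1))).1
  refine ⟨W, d, inferInstance, fun z => ?_, ?_, hdU, fun z hz hzd => ?_⟩
  · by_cases hzd : z ∈ Set.range d
    · obtain ⟨V, hV, hzV, hI⟩ := hker z (hdU hzd) hzd
      refine ⟨V, hzV, _, ?_, hI⟩
      haveI : Nonempty V.1 := ⟨⟨z, hzV⟩⟩
      haveI : IsDomain Γ(X, V.1) := IsIntegral.component_integral _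
      exact mem_nonZeroDivisors_of_ne_zero fun h0 =>
        hτ (map_injective_of_isIntegral X (homOfLE hV) (h0.trans (map_zero _).symm))
    · obtain ⟨V, hV, hzV, hVd⟩ := exists_isAffineOpen_mem_and_subset (X := X) (x := z)
        (U := ⟨(Set.range d)ᶜ, d.isClosedEmbedding.isClosed_range.isOpen_compl⟩) hzd
      refine ⟨⟨V, hV⟩, hzV, 1, one_mem _, ?_⟩
      rw [Ideal.span_singleton_one, Scheme.Hom.ker_apply]
      have hbot : d ⁻¹ᵁ V = ⊥ := eq_bot_iff.2 fun w hw => (hVd hw) ⟨w, rfl⟩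
      haveI : Subsingleton Γ((W : Scheme.{u}), d ⁻¹ᵁ V) := by rw [hbot]; infer_instance
      exact eq_top_iff.2 fun a _ => Subsingleton.elim _ _
  · ext y
    constructor
    · rintro ⟨⟨w, rfl⟩, hy⟩
      have h := (hrange _).1 ⟨Q.ι (W.ι w), rfl⟩
      exact hiso _ h.1 hy h.2
    · rintro rfl
      refine ⟨⟨⟨⟨z₀, hqf⟩, hW ⟨z₀, hqf⟩ ?_⟩, hz₀⟩, hxs⟩
      show p (ζ z₀) = _
      rw [hz₀, hxs]
  · obtain ⟨V, hV, hzV, hI⟩ := hker z hz hzd
    rw [DivDesc12.stI_eq _ V hzV, hI, Ideal.map_span, Set.image_singleton]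
    congr 2
    exact TopCat.Presheaf.germ_res_apply _ _ z hzV τ

end Groth.Agent.Curvette
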