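import Groth.Agent.Lib.Curvette32.Construct
import Groth.Agent.Lib.ArInter.Model
import Groth.Agent.Lib.ArInter.ModelInt
import Groth.Agent.Lib.ArInter.Meet
import Groth.Agent.Lib.ArInter.Deg
import Groth.Agent.Lib.ArInter.ChainGen
import Groth.Agent.Lib.RegImm26.Noeth
import Groth.Agent.Lib.SmoothReg17.Basic
import Groth.Agent.Lib.PointBlowUp32.Global
import Groth.Agent.Lib.CurveCoh17.Point
import Groth.Agent.Lib.VB17.Setup
import Groth.Agent.Lib.MinModel32.Basic
import Mathlib

/-!
# A divisor of degree one on a single component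
-/

set_option autoImplicit false
set_option linter.style.haveILetI false
set_option linter.unusedSectionVars false
set_option backward.isDefEq.respectTransparency false
set_option maxHeartbeats 1000000

universe u

open CategoryTheory CategoryTheory.Limits AlgebraicGeometry TopologicalSpace

namespace Groth.Agent.Curvette

theorem stI_top_of_notMem {Y : Scheme.{u}} {I : Y.IdealSheafData} {x : Y} (hx : x ∉ (I.support : Set Y)) :
    DivDesc12.stI I x = ⊤ := by
  obtain ⟨U, hU, hxU⟩ := DivDesc12.exists_affine x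
  rw [SetLike.mem_coe, Scheme.IdealSheafData.mem_support_iff_of_mem (U := ⟨U, hU⟩) hxU,
    Scheme.mem_zeroLocus_iff] at hx
  push Not at hx
  obtain ⟨f, hf, hxf⟩ := hx
  rw [DivDesc12.stI_eq _ ⟨U, hU⟩ hxU]
  exact Ideal.eq_top_of_isUnit_mem _ (Ideal.mem_map_of_mem _ hf) ((Y.mem_basicOpen f x hxU).mp hxf)

theorem isPrincipal_maximalIdeal_of_smooth {k : Type u} [Field k] {Y : Scheme.{u}}
    (f : Y ⟶ Spec (CommRingCat.of k)) [LocallyOfFinitePresentation f] (hd : topologicalKrullDim Y ≤ 1) {y : Y}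
    (hy : y ∈ f.smoothLocus) : (IsLocalRing.maximalIdeal (Y.presheaf.stalk y)).IsPrincipal := by
  haveI : Smooth (f.smoothLocus.ι ≫ f) := Scheme.Hom.smoothLocus_eq_top_iff.1 (by
    rw [← Scheme.Hom.preimage_smoothLocus_eq, Scheme.Opens.ι_preimage_self])
  haveI := SmoothReg17.isRegularLocalRing_stalk (f.smoothLocus.ι ≫ f) ⟨y, hy⟩
  haveI : IsRegularLocalRing (Y.presheaf.stalk y) :=
    IsRegularLocalRing.of_ringEquiv (f.smoothLocus.stalkIso ⟨y, hy⟩).commRingCatIsoToRingEquiv
  have h1 := (IsRegularLocalRing.spanFinrank_maximalIdeal (R := Y.presheaf.stalk y)).le.trans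
    ((VB17.ringKrullDim_stalk_le_topologicalKrullDim y).trans hd)
  have h2 : (IsLocalRing.maximalIdeal (Y.presheaf.stalk y)).spanFinrank ≤ 1 := by exact_mod_cast h1
  rcases Nat.le_one_iff_eq_zero_or_eq_one.1 h2 with h | h
  · rw [Submodule.spanFinrank_eq_zero_iff_eq_bot (IsNoetherian.noetherian _)] at h
    rw [h]
    exact bot_isPrincipal
  · exact ((Submodule.spanFinrank_eq_one_iff _).1 h).1

variable {R : Type u} [CommRing R] [IsDomain R] [IsDiscreteValuationRing R] [HenselianLocalRing R]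
  [IsAlgClosed (IsLocalRing.ResidueField R)] {X : Scheme.{u}} {p : X ⟶ Spec (CommRingCat.of R)}

theorem exists_invertible_delta (hS : ArInter.IsSurf (Over.mk p)) (hreg : Models.IsRegularScheme X) {n : ℕ}
    {Γ : Fin n → ArSurf.VertComp R (Over.mk p)} (hΓ : Models.IsComponentList R (Over.mk p) Γ) (i : Fin n) :
    ∃ M : X.Modules, PicF.IsInvertible M ∧
      ∀ j, ArSurf.inter R (Over.mk p) M (Γ j) = if j = i then 1 else 0 := by
  classical
  haveI : IsProper p := hS.proper
  haveI : IsIntegral X := hS.integral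
  haveI : IsLocallyNoetherian X := LocallyOfFiniteType.isLocallyNoetherian p
  haveI := (Γ i).isClosedImmersion
  haveI := (Γ i).isIntegral
  have hE := fun j => ArInter.isEffCartierIdeal_component hS.pre hreg hΓ j
  let bad : Set X := ⋃ j ∈ {j : Fin n | j ≠ i}, Set.range (Γ j).ι.base
  have hbad : IsClosed bad := (Set.toFinite {j : Fin n | j ≠ i}).isClosed_biUnion fun j _ =>
    (Γ j).ι.isClosedEmbedding.isClosed_range
  let Y : Scheme.{u} := (Γ i).curve.left
  let ι : Y ⟶ X := (Γ i).ι
  let f₀ : Y ⟶ Spec (CommRingCat.of (IsLocalRing.ResidueField R)) := (Γ i).curve.hom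
  haveI : IsProper f₀ := ArInter.isProper_curve hS (Γ i)
  haveI : IsLocallyNoetherian Y := LocallyOfFiniteType.isLocallyNoetherian f₀
  haveI : LocallyOfFinitePresentation f₀ := {
    finitePresentation_appLE := fun {U} hU {V} hV e =>
      haveI := IsLocallyNoetherian.component_noetherian (X := Spec (CommRingCat.of (IsLocalRing.ResidueField R))) ⟨U, hU⟩
      RingHom.FinitePresentation.of_finiteType.mp (f₀.finiteType_appLE hU hV e) }
  haveI : JacobsonSpace Y := LocallyOfFiniteType.jacobsonSpace f₀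
  have hgenbad : ι (genericPoint Y) ∉ bad := by
    intro h
    obtain ⟨j, hj, hm⟩ := Set.mem_iUnion₂.1 h
    exact ArInter.genPtOf_notMem_range hS.pre (hE i) (hE j) (fun e => hj (hΓ.1 e).symm) hm
  let V : Y.Opens := f₀.smoothLocus ⊓ ⟨ι ⁻¹' badᶜ, hbad.isOpen_compl.preimage ι.continuous⟩
  obtain ⟨x', hx'V, hx'c⟩ := nonempty_inter_closedPoints (X := Y) (Z := (V : Set Y))
    ⟨genericPoint Y, Scheme.Hom.genericPoint_mem_smoothLocus_of_perfectField f₀, hgenbad⟩
    V.2.isLocallyClosed
  replace hx'c : IsClosed ({x'} : Set Y) := hx'c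
  let x : X := ι x'
  have hxc : IsClosed ({x} : Set X) := by
    rw [← Set.image_singleton]; exact ι.isClosedEmbedding.isClosedMap _ hx'c
  have hxs : p x = IsLocalRing.closedPoint R := MinModel.closed_over p hxc
  have hxbad : x ∉ bad := hx'V.2
  -- the parameters at `x`
  obtain ⟨c, hc⟩ := (isPrincipal_maximalIdeal_of_smooth f₀ (Γ i).dim_eq.le hx'V.1).principal
  have hxg : x' ≠ genericPoint Y := by
    intro e
    have hgc : IsClosed ({genericPoint Y} : Set Y) := e ▸ hx'c
    haveI : Subsingleton Y := ⟨fun a b => by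
      have h1 := ((genericPoint_specializes a).mem_closed hgc rfl : a = genericPoint Y)
      have h2 := ((genericPoint_specializes b).mem_closed hgc rfl : b = genericPoint Y)
      rw [h1, h2]⟩
    have h0 : topologicalKrullDim Y ≤ 0 := by
      haveI : Subsingleton (IrreducibleCloseds Y) := ⟨fun A B => IrreducibleCloseds.ext (by
          obtain ⟨a, ha⟩ := A.isIrreducible'.nonempty
          obtain ⟨b, hb⟩ := B.isIrreducible'.nonempty
          ext w
          exact ⟨fun _ => Subsingleton.elim b w ▸ hb, fun _ => Subsingleton.elim a w ▸ ha⟩)⟩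
      exact Order.krullDim_nonpos_of_subsingleton
    rw [(Γ i).dim_eq] at h0
    exact absurd h0 (by decide)
  have hm0 : IsLocalRing.maximalIdeal (Y.presheaf.stalk x') ≠ ⊥ := fun h => by
    have h1 := DivDesc12.ringKrullDim_stalk_lt (genericPoint_specializes x') (Ne.symm hxg)
    rw [ringKrullDim_eq_zero_of_isField (IsLocalRing.isField_iff_maximalIdeal_eq.2 h)] at h1
    exact absurd (lt_of_le_of_lt ringKrullDim_nonneg_of_nontrivial h1) (lt_irrefl _)
  obtain ⟨t₀, ht₀⟩ := ι.stalkMap_surjective x' c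
  obtain ⟨U, hU, hxU, hUbad⟩ := exists_isAffineOpen_mem_and_subset (X := X) (x := x)
    (U := ⟨badᶜ, hbad.isOpen_compl⟩) hxbad
  letI : Algebra Γ(X, U) (X.presheaf.stalk x) := X.presheaf.algebra_section_stalk (⟨x, hxU⟩ : U)
  haveI : IsLocalization.AtPrime (X.presheaf.stalk x) (hU.primeIdealOf ⟨x, hxU⟩).asIdeal :=
    hU.isLocalization_stalk ⟨x, hxU⟩
  obtain ⟨⟨b, s⟩, hbs⟩ := IsLocalization.surj (hU.primeIdealOf ⟨x, hxU⟩).asIdeal.primeCompl t₀
  let σ := (ι.stalkMap x').hom
  let b₁ : X.presheaf.stalk x := X.presheaf.germ U x hxU b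
  have hmax : IsLocalRing.maximalIdeal (Y.presheaf.stalk x') = Ideal.span {σ b₁} := by
    rw [hc]
    have e : σ b₁ = c * σ (algebraMap Γ(X, U) (X.presheaf.stalk x) s.1) := by
      rw [← ht₀]
      exact (congrArg σ hbs.symm).trans (map_mul σ _ _)
    rw [e, Ideal.span_singleton_mul_right_unit ((IsLocalization.map_units (X.presheaf.stalk x) s).map σ)]
  have hb₁0 : σ b₁ ≠ 0 := fun h => hm0 (by rw [hmax, h, Ideal.span_singleton_eq_bot])
  have hker : RingHom.ker σ = DivDesc12.stI ι.ker x := by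
    rw [DivDesc12.stI_eq _ ⟨U, hU⟩ hxU, Scheme.Hom.ker_apply]
    exact RegImm26.ker_stalkMap_eq ι x' hU hxU
  -- isolation in the closed fibre
  let bY : Γ(Y, ι ⁻¹ᵁ U) := ι.app U b
  have hbY : genericPoint Y ∈ Y.basicOpen bY := by
    have hne : (Y.basicOpen bY : Set Y).Nonempty := by
      by_contra he
      rw [Set.not_nonempty_iff_eq_empty] at he
      have h0 : bY = 0 := (basicOpen_eq_bot_iff bY).1 (Opens.ext he)
      refine hb₁0 ?_
      show ι.stalkMap x' (X.presheaf.germ U (ι x') hxU b) = 0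
      rw [Scheme.Hom.germ_stalkMap_apply]
      exact (congrArg (Y.presheaf.germ (ι ⁻¹ᵁ U) x' hxU) h0).trans (map_zero _)
    exact ((genericPoint_spec Y).mem_open_set_iff (Y.basicOpen bY).2).2 (by simpa using hne)
  let T : Set Y := (Y.basicOpen bY : Set Y)ᶜ
  haveI : AlgebraicGeometry.IsNoetherian Y := by
    haveI : CompactSpace Y := QuasiCompact.compactSpace_of_compactSpace f₀
    exact ⟨⟩
  have hTpt : ∀ a ∈ T, IsClosed ({a} : Set Y) := fun a ha => by
    rw [← closure_eq_iff_isClosed]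
    refine Set.Subset.antisymm (fun w hw => ?_) subset_closure
    by_contra hne
    have h1 := (PointBlowUp.two_le_ringKrullDim_stalk (genericPoint_specializes a) (specializes_iff_mem_closure.2 hw)
      (fun e => ha (e ▸ hbY)) fun e => hne e.symm).trans (VB17.ringKrullDim_stalk_le_topologicalKrullDim w)
    rw [(Γ i).dim_eq] at h1
    exact absurd h1 (by decide)
  have hTfin : T.Finite := by
    obtain ⟨S, hSf, hSc, hSi, hSeq⟩ :=
      NoetherianSpace.exists_finite_set_isClosed_irreducible (Y.basicOpen bY).2.isClosed_compl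
    rw [show T = ⋃₀ S from hSeq]
    refine hSf.sUnion fun A hA => ?_
    have hgp := (hSi A hA).isGenericPoint_genericPoint (hSc A hA)
    have hmem : (hSi A hA).genericPoint ∈ T := (show T = ⋃₀ S from hSeq) ▸ Set.mem_sUnion.2 ⟨A, hA, hgp.mem⟩
    refine (Set.finite_singleton (hSi A hA).genericPoint).subset fun z hz => ?_
    have hz' : z ∈ closure {(hSi A hA).genericPoint} := (Set.ext_iff.1 hgp.def z).2 hz
    rwa [(hTpt _ hmem).closure_eq] at hz'
  have hcl : IsClosed (ι '' (T \ {x'})) := by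
    rw [← Set.biUnion_of_singleton (T \ {x'}), Set.image_iUnion₂]
    refine (hTfin.subset Set.sdiff_subset).isClosed_biUnion fun a ha => ?_
    exact ι.isClosedEmbedding.isClosedMap _ (hTpt a ha.1)
  have hxnot : x ∉ ι '' (T \ {x'}) := by
    rintro ⟨a, ha, he⟩
    exact ha.2 (ι.isClosedEmbedding.injective he)
  let W₀ : X.Opens := ⟨(ι '' (T \ {x'}))ᶜ, hcl.isOpen_compl⟩
  obtain ⟨h, hhle, hxh⟩ := hU.exists_basicOpen_le (V := W₀) ⟨x, hxnot⟩ hxU
  have hh : X.basicOpen h ≤ U := X.basicOpen_le h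
  let τ : Γ(X, X.basicOpen h) := (X.presheaf.map (homOfLE hh).op) b
  have hgerm : X.presheaf.germ (X.basicOpen h) x hxh τ = b₁ := TopCat.Presheaf.germ_res_apply _ _ x hxh b
  have hb₁m : ¬ IsUnit b₁ := fun hu => by
    have h1 : IsUnit (σ b₁) := hu.map σ
    have h2 : σ b₁ ∈ IsLocalRing.maximalIdeal (Y.presheaf.stalk x') := hmax ▸ Ideal.mem_span_singleton_self _
    exact h2 h1
  obtain ⟨D, d, hd, hD, hDF, hDU, hDst⟩ := exists_horizontal p (hU.basicOpen h) τ hxh hxs
    (fun hm => hb₁m (hgerm ▸ (Scheme.mem_basicOpen X τ x hxh).1 hm))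
    (fun h0 => hb₁0 (by rw [← hgerm, h0, map_zero, map_zero]))
    (fun y hy hys hyτ => by
      obtain ⟨j, hj⟩ := ArInter.cover_of_isComponentList hΓ y hys
      obtain rfl : j = i := by
        by_contra hne
        exact hUbad (hh hy) (Set.mem_biUnion (show j ∈ {j : Fin n | j ≠ i} from hne) hj)
      obtain ⟨a, rfl⟩ := hj
      by_cases ha : a = x'
      · exact congrArg ι ha
      exfalso
      refine hhle hy ⟨a, ⟨fun hmem => hyτ ?_, ha⟩, rfl⟩
      have h1 : a ∈ ι ⁻¹ᵁ X.basicOpen b := by rw [Scheme.preimage_basicOpen]; exact hmem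
      show ι a ∈ X.basicOpen τ
      rw [Scheme.basicOpen_res]
      exact ⟨hy, h1⟩)
  haveI := hd
  have hsupp : (d.ker.support : Set X) = Set.range d := by
    rw [Scheme.Hom.support_ker]; exact d.isClosedEmbedding.isClosed_range.closure_eq
  have honly : ∀ y ∈ (d.ker.support : Set X), p y = IsLocalRing.closedPoint R → y = x := fun y hy hys =>
    hDF.le ⟨hsupp.le hy, hys⟩
  have hgen : ∀ j, (Γ j).ι.base (genericPoint (Γ j).curve.left) ∉ (d.ker.support : Set X) := fun j hj => by
    have he := honly _ hj (ArInter.genPtOf_mem_specialFibreSet (Γ j))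
    rcases eq_or_ne j i with rfl | hne
    · exact hxg (ι.isClosedEmbedding.injective he).symm
    · exact hxbad (Set.mem_biUnion (show j ∈ {j : Fin n | j ≠ i} from hne) ⟨_, he⟩)
  let M : X.Modules := M2.dualMod (ClSub.idealMod d.ker)
  have hI := M2.isInvertible_idealMod _ hD
  have hL : ClSub.IsInverseOf M (ClSub.idealMod d.ker) := ⟨M2.dualTensorIso hI⟩
  refine ⟨M, M2.isInvertible_of_tensor_iso hI hL.some, fun j => ?_⟩
  rcases eq_or_ne j i with rfl | hne
  · rw [if_pos rfl, ArInter.inter_eq_finrank hS (Γ j) hD (hgen j) hL]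
    have hJ : d.ker.comap ι = Scheme.IdealSheafData.vanishingIdeal (⟨{x'}, hx'c⟩ : Closeds Y) := by
      refine DivDesc12.idealSheaf_ext_of_stI fun y => ?_
      by_cases hy : y = x'
      · subst hy
        rw [DivDesc12.stI_comap, hDst x hxh (hDF.ge rfl).1, hgerm, Ideal.map_span, Set.image_singleton]
        refine hmax.symm.trans ?_
        obtain ⟨W, hW, hxW⟩ := DivDesc12.exists_affine y
        rw [DivDesc12.stI_eq _ ⟨W, hW⟩ hxW]
        exact (PointBlowUp.map_germ_vanishing hx'c ⟨W, hW⟩ hxW).symm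
      · rw [stI_top_of_notMem, stI_top_of_notMem]
        · rw [Scheme.IdealSheafData.coe_support_vanishingIdeal]; exact hy
        · rw [Scheme.IdealSheafData.support_comap]
          intro hm
          exact hy (ι.isClosedEmbedding.injective
            (honly _ hm (show ι y ∈ Models.specialFibreSet R (Over.mk p) from
              (hΓ.2.le ⟨j, rfl⟩ : Set.range (Γ j).ι.base ∈ Models.fibreComponents R (Over.mk p)).1.2 ⟨y, rfl⟩)))
    rw [hJ]
    haveI : LocallyOfFiniteType ((Γ j).curve.left ↘ Spec (CommRingCat.of (IsLocalRing.ResidueField R))) :=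
      (inferInstance : LocallyOfFiniteType f₀)
    rw [CurveCoh17.finrank_quotMod_point, CurveCoh17.finrank_residueField hx'c, Nat.cast_one]
  · rw [if_neg hne]
    refine ((ArInter.inter_nonneg_and_eq_zero_iff hS (Γ j) hD (hgen j) hL).2).2 ?_
    rw [Set.disjoint_left]
    rintro _ ⟨a, rfl⟩ hm
    refine hxbad (Set.mem_biUnion (show j ∈ {j : Fin n | j ≠ i} from hne) ⟨a, honly _ hm ?_⟩)
    exact (hΓ.2.le ⟨j, rfl⟩ : Set.range (Γ j).ι.base ∈ Models.fibreComponents R (Over.mk p)).1.2 ⟨a, rfl⟩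

end Groth.Agent.Curvette
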